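import Cfsg.Agent.Lib.Block.Mathieu.Elements
import Cfsg.Agent.Lib.Fus.MathieuTwoGroups

/-!
M22 has no character of 2-defect zero.
-/

set_option autoImplicit false
set_option maxRecDepth 100000

namespace Cfsg.Agent.Block.Mathieu

open Cfsg Cfsg.Agent.Spor.Golay Cfsg.Agent.Spor.Golay.Census Cfsg.Agent.Spor.Golay.Aut Cfsg.Agent.Block

/-- Lying in M24 and fixing the two distinguished points. -/
def in22 (P : ℕ) : Bool := inM24 P && Nat.beq (get P 0) 0 && Nat.beq (get P 23) 23

theorem pt_zero : pt 0 = (some 0 : GolayPt) := by decide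

theorem pt_last : pt 23 = (none : GolayPt) := by decide

theorem mem22_iff {g : Equiv.Perm GolayPt} :
    g ∈ Spor.M22 ↔ g ∈ M24 ∧ g (pt 0) = pt 0 ∧ g (pt 23) = pt 23 := by
  rw [pt_zero, pt_last]
  show ((g ∈ M24 ∧ g none = none) ∧ g (some 0) = some 0) ↔ _
  tauto

theorem permOf_mem22 {P : ℕ} (h : in22 P = true) : permOf P ∈ Spor.M22 := by
  simp only [in22, Bool.and_eq_true] at h
  obtain ⟨⟨h1, h2⟩, h3⟩ := h
  have hv := valid_inM24 h1
  refine mem22_iff.mpr ⟨permOf_mem_M24 h1, idx_injective ?_, idx_injective ?_⟩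
  · rw [idx_permOf hv, idx_pt (by norm_num)]; exact Nat.eq_of_beq_eq_true h2
  · rw [idx_permOf hv, idx_pt (by norm_num)]; exact Nat.eq_of_beq_eq_true h3

theorem le24 : Spor.M22 ≤ M24 := fun _ h => (mem22_iff.mp h).1

/-- Conjugating data: `a` carries `x` to `e` and two fixed points of `e` to the distinguished ones. -/
def transOk (x a ai e u v : ℕ) : Bool :=
  inM24 a && valid ai && valid e && Nat.beq (comp ai a) idP && Nat.beq (comp a (comp e ai)) x &&
    in22 x && Nat.blt u 24 && Nat.blt v 24 &&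
    (Nat.beq (get a u) 0 || Nat.beq (get a u) 23) && (Nat.beq (get a v) 0 || Nat.beq (get a v) 23)

/-- Fixing two points. -/
def keepTwo (u v : ℕ) (R : ℕ) : Bool := Nat.beq (get R u) u && Nat.beq (get R v) v

theorem trans_spec {x a ai e u v : ℕ} (h : transOk x a ai e u v = true) :
    permOf a ∈ M24 ∧ valid e = true ∧ ∃ hx : permOf x ∈ Spor.M22,
      (permOf a)⁻¹ * permOf x * permOf a = permOf e ∧
      ∀ g ∈ Spor.M22, ∀ R, valid R = true → permOf R = (permOf a)⁻¹ * g * permOf a →
        keepTwo u v R = true := by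
  simp only [transOk, Bool.and_eq_true, Bool.or_eq_true] at h
  obtain ⟨⟨⟨⟨⟨⟨⟨⟨⟨ha, hai⟩, he⟩, hinv⟩, hx⟩, hx22⟩, hu⟩, hv⟩, hau⟩, hav⟩ := h
  have hva := valid_inM24 ha
  have hinv' : permOf ai * permOf a = 1 := by
    rw [← permOf_comp hai hva, Nat.eq_of_beq_eq_true hinv, permOf_idP]
  refine ⟨permOf_mem_M24 ha, he, permOf_mem22 hx22, ?_, fun g hg R hR hRe => ?_⟩
  · rw [← Nat.eq_of_beq_eq_true hx, permOf_comp hva (valid_comp he hai), permOf_comp he hai,
      ← eq_inv_of_mul_eq_one_left hinv']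
    calc permOf ai * (permOf a * (permOf e * permOf ai)) * permOf a
        = (permOf ai * permOf a) * permOf e * (permOf ai * permOf a) := by group
      _ = permOf e := by rw [hinv', one_mul, mul_one]
  · obtain ⟨-, h0, h23⟩ := mem22_iff.mp hg
    have key : ∀ w < 24, (Nat.beq (get a w) 0 = true ∨ Nat.beq (get a w) 23 = true) → get R w = w := by
      intro w hw haw
      have h1 : permOf a (pt w) = pt (get a w) := idx_injective (by
        rw [idx_permOf hva, idx_pt hw, idx_pt ((valid_iff.mp hva).2 w hw)])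
      have h2 : g (permOf a (pt w)) = permOf a (pt w) := by
        rw [h1]
        rcases haw with h | h <;> rw [Nat.eq_of_beq_eq_true h]
        · exact h0
        · exact h23
      have h3 : permOf R (pt w) = pt w := by
        rw [hRe, Equiv.Perm.mul_apply, Equiv.Perm.mul_apply, h2]
        exact (permOf a).symm_apply_apply _
      have := congrArg idx h3
      rwa [idx_permOf hR, idx_pt hw] at this
    have hu' : u < 24 := by simpa [Nat.blt] using hu
    have hv' : v < 24 := by simpa [Nat.blt] using hv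
    simp only [keepTwo, key u hu' hau, key v hv' hav, Bool.and_eq_true]
    exact ⟨Nat.beq_refl _, Nat.beq_refl _⟩

/-- Normalizer bound in M22 and the order of the element. -/
theorem bound22 {x a ai e u v p : ℕ} [Fact p.Prime] (h : transOk x a ai e u v = true)
    (hord : orderOf (permOf e) = p) {c k : ℕ}
    (hc : ((conjList e e).filter (keepTwo u v)).length ≤ c)
    (hk : k = p - 1 ∨ (2 * k + 1 = p ∧
      ∃ y, valid y = true ∧ comp y e = idP ∧ (conjList e y).filter (keepTwo u v) = [])) :
    ∃ X : Spor.M22, (X : Equiv.Perm GolayPt) = permOf x ∧ orderOf X = p ∧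
      Nat.card (Subgroup.normalizer (Subgroup.zpowers X : Set Spor.M22)) ≤ c * k := by
  obtain ⟨ha, he, hx, hconj, hkeep⟩ := trans_spec h
  have ho : orderOf (⟨permOf x, hx⟩ : Spor.M22) = p := by
    rw [← Subgroup.orderOf_coe, ← hord, ← hconj]
    exact ((MulAut.conj (permOf a)⁻¹).orderOf_eq _).symm.trans (by simp [MulAut.conj_apply])
  refine ⟨⟨_, hx⟩, rfl, ho, card_normalizer_le ho ?_ ?_⟩
  · exact centralizer_bound Spor.M22 le24 ha (keepTwo u v) hkeep he hconj hc
  · rcases hk with hk | ⟨hk, y, hy, hye, hnil⟩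
    · exact Or.inl hk
    · exact Or.inr ⟨hk, no_inverter Spor.M22 le24 ha (keepTwo u v) hkeep he hy hye hconj hnil⟩

/-- The element of order eleven inside M22. -/
def x11 : ℕ := 0xbb08e44685abc2b10da934aca3ce00
/-- The element of order seven inside M22. -/
def x7 : ℕ := 0xbad951d932891af3a033309ca2c280
/-- The element of order five inside M22. -/
def x5 : ℕ := 0xbb242815c6a20955a9ed19ed198520
/-- Conjugates `x11` to its cube. -/
def c11 : ℕ := 0xb95e4b49d389e0b41922a8daaa0580
/-- Conjugates `x7` to its square. -/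
def c7 : ℕ := 0xbd831441267a9b539684149d31ad80
/-- Conjugates `x5` to its square. -/
def c5 : ℕ := 0xbcaa4996864045652e2f80d893b9a0

theorem trans11 : transOk x11 0xaa9211aef63140c84c823a1af75232 0x8c2e25002b20cac95aa63bdc99a28d
    e11 13 17 = true := by decide +kernel

theorem trans7 : transOk x7 0xa25b05d82faca3362057018ea238a3 0x449f7639b480aab992ca2982302627
    e7 7 8 = true := by decide +kernel

theorem trans5 : transOk x5 0x284f0b30497aaab1de72050c46a1d1 0x54da64a0147847263a02a96e45c6c7
    e5 7 10 = true := by decide +kernel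

/-- `c` conjugates `x` to its `i`-th power. -/
def powConj (c x i : ℕ) : Bool :=
  in22 c && valid x && relFull x (Nat.rec idP (fun _ d => comp d x) i) c

theorem powConj_ok : powConj c11 x11 3 = true ∧ powConj c7 x7 2 = true ∧ powConj c5 x5 2 = true := by
  decide +kernel

theorem isConj_pow {c x i : ℕ} (h : powConj c x i = true) {X : Spor.M22}
    (hX : (X : Equiv.Perm GolayPt) = permOf x) : IsConj X (X ^ i) := by
  simp only [powConj, Bool.and_eq_true] at h
  obtain ⟨⟨hc, hx⟩, hrel⟩ := h
  have hvc : valid c = true := by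
    simp only [in22, Bool.and_eq_true] at hc
    exact valid_inM24 hc.1.1
  refine isConj_iff.mpr ⟨⟨permOf c, permOf_mem22 hc⟩, Subtype.ext ?_⟩
  simp only [Subgroup.coe_mul, InvMemClass.coe_inv, SubmonoidClass.coe_pow, hX]
  obtain ⟨hv, he⟩ := rec_pow hx i
  rw [mul_inv_eq_iff_eq_mul, ← he, ← permOf_comp hvc hx, ← permOf_comp hv hvc,
    Nat.eq_of_beq_eq_true hrel]

theorem no_defect_zero22 {M : Ideal AlgInt} (hM : IsPModular 2 M) (χ : IrrCharacter Spor.M22) :
    (charDegree (χ : Spor.M22 → ℂ)).factorization 2 ≠ (Nat.card Spor.M22).factorization 2 := by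
  intro hfull
  haveI : Fintype Spor.M22 := Fintype.ofFinite _
  have hcard := Cfsg.Agent.Fus.Mathieu.card22
  obtain ⟨m, hdeg, hm, hsq⟩ := SingleBlock.full_degree (p := 2) χ hfull (k := 7) (n := 3465)
    (by rw [hcard]; rfl)
  have hm5 : m ≤ 5 := by
    by_contra hc
    have : (2 ^ 7 * 6) ^ 2 ≤ (2 ^ 7 * m) ^ 2 := Nat.pow_le_pow_left (by omega) 2
    rw [hcard] at hsq
    omega
  have hm0 : m ≠ 0 := by rintro rfl; simp at hm
  haveI : Fact (Nat.Prime 11) := ⟨by norm_num⟩
  haveI : Fact (Nat.Prime 7) := ⟨by norm_num⟩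
  haveI : Fact (Nat.Prime 5) := ⟨by norm_num⟩
  obtain ⟨X11, hX11, ho11, hN11⟩ := bound22 trans11 orderOf_e11 (c := 11) cent11.2 (k := 5)
    (Or.inr ⟨rfl, e11i, e11_ok.2.1, e11_ok.2.2.1, noinv11⟩)
  obtain ⟨X7, hX7, ho7, hN7⟩ := bound22 trans7 orderOf_e7 (c := 7) cent7.2 (k := 3)
    (Or.inr ⟨rfl, e7i, e7_ok.2.1, e7_ok.2.2.1, by rw [noinv7]; rfl⟩)
  obtain ⟨X5, hX5, ho5, hN5⟩ := bound22 trans5 orderOf_e5 (c := 5) cent5.2 (k := 4) (Or.inl rfl)
  have hne : χ ≠ trivialIrr Spor.M22 := ne_trivial χ (by rw [hdeg]; omega)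
  have hd1 : (χ : Spor.M22 → ℂ) 1 = ((2 ^ 7 * m : ℕ) : ℂ) := by rw [charDeg_spec', hdeg]
  by_cases hm3 : m = 3
  · subst hm3
    refine NormBound.contradiction χ hne hd1 (1 / 1000) ![X11, X7, X5] ![11, 7, 5] (by decide) ?_ ?_
      ![55, 21, 20] ?_ (fun i => ((![11, 7, 5] i : ℕ) - 1 : ℝ) * (1 + 1 / 1000) ^ 2) ?_ ?_ ?_
    · intro i; fin_cases i <;> norm_num
    · intro i; fin_cases i
      · exact ho11
      · exact ho7
      · exact ho5
    · intro i; fin_cases i
      · exact hN11
      · exact hN7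
      · exact hN5
    · intro i; fin_cases i <;> norm_num
    · intro i hi
      fin_cases i
      · have h := SingleBlock.norm_lower_shift χ ho11 (i := 3) (by rw [hdeg]; norm_num) (by norm_num) (by norm_num)
          (isConj_pow powConj_ok.1 hX11) (t := 1 / 1000) (by norm_num) (by norm_num)
        rw [hdeg] at h
        convert h <;> rfl
      · have h := SingleBlock.norm_lower_shift χ ho7 (i := 2) (by rw [hdeg]; norm_num) (by norm_num) (by norm_num)
          (isConj_pow powConj_ok.2.1 hX7) (t := 1 / 1000) (by norm_num) (by norm_num)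
        rw [hdeg] at h
        convert h <;> rfl
      · have h := SingleBlock.norm_lower_shift χ ho5 (i := 2) (by rw [hdeg]; norm_num) (by norm_num) (by norm_num)
          (isConj_pow powConj_ok.2.2 hX5) (t := 1 / 1000) (by norm_num) (by norm_num)
        rw [hdeg] at h
        convert h <;> rfl
    · rw [hcard]
      simp only [Fin.sum_univ_three, Matrix.cons_val_zero, Matrix.cons_val_one, Matrix.cons_val,
        Matrix.head_cons]
      norm_num
  · have hbot : IsPGroup 2 (⊥ : Subgroup Spor.M22) := IsPGroup.of_bot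
    refine NormBound.contradiction χ hne hd1 0 ![X11, X7] ![11, 7] (by decide) ?_ ?_ ![55, 21] ?_
      (fun i => ((1 ^ 2 * (2 ^ 7 * m / 1 % ![11, 7] i * (![11, 7] i - 2 ^ 7 * m / 1 % ![11, 7] i)) : ℕ) : ℝ))
      (fun i => Nat.cast_nonneg _) ?_ ?_
    · intro i; fin_cases i <;> norm_num
    · intro i; fin_cases i
      · exact ho11
      · exact ho7
    · intro i; fin_cases i
      · exact hN11
      · exact hN7
    · intro i hi
      fin_cases i
      · exact gamma_div hM χ hfull (by norm_num) ho11 (by norm_num) ⊥ hbot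
          (fun e he => by rw [Subgroup.mem_bot.1 he]; exact Commute.one_right _) Subgroup.card_bot hdeg
      · exact gamma_div hM χ hfull (by norm_num) ho7 (by norm_num) ⊥ hbot
          (fun e he => by rw [Subgroup.mem_bot.1 he]; exact Commute.one_right _) Subgroup.card_bot hdeg
    · rw [hcard]
      simp only [Fin.sum_univ_two, Matrix.cons_val_zero, Matrix.cons_val_one, Matrix.cons_val,
        Matrix.head_cons]
      interval_cases m
      all_goals first | (norm_num at hm; done) | exact absurd rfl hm3 | norm_num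

end Cfsg.Agent.Block.Mathieu
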