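import Cfsg.Agent.Lib.Block.Mathieu.Elements
import Cfsg.Agent.Lib.Spor.Golay.M24

/-!
M24 has no character of 2-defect zero.
-/

set_option autoImplicit false
set_option maxRecDepth 100000

namespace Cfsg.Agent.Block.Mathieu

open Cfsg Cfsg.Agent.Spor.Golay Cfsg.Agent.Spor.Golay.Census Cfsg.Agent.Spor.Golay.Aut Cfsg.Agent.Block

/-- An element of M24 from packed data. -/
noncomputable def el24 (P : ℕ) (h : inM24 P = true) : M24 := ⟨permOf P, permOf_mem_M24 h⟩

theorem orderOf_el24 {P : ℕ} (h : inM24 P = true) : orderOf (el24 P h) = orderOf (permOf P) :=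
  (Subgroup.orderOf_coe (el24 P h)).symm

theorem bound24 {x : ℕ} (hx : inM24 x = true) {p : ℕ} [Fact p.Prime]
    (hord : orderOf (permOf x) = p) {c k : ℕ} (hc : (conjList x x).length ≤ c)
    (hk : k = p - 1 ∨ (2 * k + 1 = p ∧
      ∃ y, valid y = true ∧ comp y x = idP ∧ conjList x y = [])) :
    Nat.card (Subgroup.normalizer (Subgroup.zpowers (el24 x hx) : Set M24)) ≤ c * k := by
  have hcj : (1 : Equiv.Perm GolayPt)⁻¹ * (el24 x hx : Equiv.Perm GolayPt) * 1 = permOf x := by
    rw [inv_one, one_mul, mul_one]; rfl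
  refine card_normalizer_le (by rw [orderOf_el24, hord]) ?_ ?_
  · exact centralizer_bound M24 le_rfl (one_mem _) (fun _ => true) (fun _ _ _ _ _ => rfl)
      (valid_inM24 hx) hcj ((List.length_filter_le _ _).trans hc)
  · rcases hk with hk | ⟨hk, y, hy, hyx, hnil⟩
    · exact Or.inl hk
    · exact Or.inr ⟨hk, no_inverter M24 le_rfl (one_mem _) (fun _ => true)
        (fun _ _ _ _ _ => rfl) (valid_inM24 hx) hy hyx hcj (by rw [hnil]; rfl)⟩

/-- An involution centralising the element of order seven. -/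
def u7 : ℕ := 0x4950f6c0d2a2e6c72af53c6c418820

/-- Involutions centralising the element of order five. -/
def a5 : ℕ := 0x256c6004ab49c4a831e37523743653

/-- The second one. -/
def b5 : ℕ := 0x28268aac811312e91db450ef133e16

theorem small_ok : inM24 u7 = true ∧ inM24 a5 = true ∧ inM24 b5 = true ∧
    Nat.rec idP (fun _ c => comp c u7) 2 = idP ∧ isTriv u7 = false ∧
    Nat.rec idP (fun _ c => comp c a5) 2 = idP ∧ isTriv a5 = false ∧
    Nat.rec idP (fun _ c => comp c b5) 2 = idP ∧ isTriv b5 = false ∧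
    isTriv (comp a5 b5) = false ∧ relFull a5 a5 b5 = true ∧
    relFull e7 e7 u7 = true ∧ relFull e5 e5 a5 = true ∧ relFull e5 e5 b5 = true := by
  decide +kernel

theorem commute_el24 {x u : ℕ} (hx : inM24 x = true) (hu : inM24 u = true)
    (h : relFull x x u = true) : Commute (el24 x hx) (el24 u hu) := by
  refine Subtype.ext ?_
  show permOf x * permOf u = permOf u * permOf x
  rw [← permOf_comp (valid_inM24 hx) (valid_inM24 hu), ← permOf_comp (valid_inM24 hu) (valid_inM24 hx),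
    Nat.eq_of_beq_eq_true h]

theorem no_defect_zero24 {M : Ideal AlgInt} (hM : IsPModular 2 M) (χ : IrrCharacter M24) :
    (charDegree (χ : M24 → ℂ)).factorization 2 ≠ (Nat.card M24).factorization 2 := by
  intro hfull
  haveI : Fintype M24 := Fintype.ofFinite _
  obtain ⟨hu, ha, hb, hu2, hut, ha2, hat, hb2, hbt, habt, habc, hxu, hxa, hxb⟩ := small_ok
  obtain ⟨m, hdeg, hm, hsq⟩ := SingleBlock.full_degree (p := 2) χ hfull (k := 10) (n := 239085)
    (by rw [card_M24]; rfl)
  have hm15 : m ≤ 15 := by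
    by_contra hc
    have : (2 ^ 10 * 16) ^ 2 ≤ (2 ^ 10 * m) ^ 2 := Nat.pow_le_pow_left (by omega) 2
    rw [card_M24] at hsq
    omega
  have hm0 : m ≠ 0 := by rintro rfl; simp at hm
  obtain ⟨E7, hE7, hE7c, hcomm7⟩ : ∃ E : Subgroup M24, IsPGroup 2 E ∧ Nat.card E = 2 ∧
      ∀ e ∈ E, Commute (el24 e7 e7_ok.1) e := by
    have ho : orderOf (el24 u7 hu) = 2 :=
      (orderOf_el24 hu).trans (orderOf_packed hu Nat.prime_two hut hu2)
    refine ⟨Subgroup.zpowers (el24 u7 hu), IsPGroup.of_card (n := 1) ?_, ?_, fun e he => ?_⟩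
    · rw [Nat.card_zpowers, ho, pow_one]
    · rw [Nat.card_zpowers, ho]
    · obtain ⟨k, rfl⟩ := Subgroup.mem_zpowers_iff.1 he
      exact (commute_el24 e7_ok.1 hu hxu).zpow_right k
  obtain ⟨E5, hE5, hE5c, hcomm5⟩ : ∃ E : Subgroup M24, IsPGroup 2 E ∧ Nat.card E = 4 ∧
      ∀ e ∈ E, Commute (el24 e5 e5_ok.1) e := by
    have hoa := (orderOf_el24 ha).trans (orderOf_packed ha Nat.prime_two hat ha2)
    have hob := (orderOf_el24 hb).trans (orderOf_packed hb Nat.prime_two hbt hb2)
    have hsqr : ∀ {g : M24}, orderOf g = 2 → g * g = 1 := fun {g} hg => by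
      rw [← pow_two, ← hg, pow_orderOf_eq_one]
    obtain ⟨E, h1, h2, h3⟩ := klein (hsqr hoa) (hsqr hob) (commute_el24 ha hb habc).eq
      (fun h => by rw [h, orderOf_one] at hoa; omega) (fun h => by rw [h, orderOf_one] at hob; omega)
      (fun h => by
        have h' := congrArg Subtype.val h
        change permOf a5 * permOf b5 = 1 at h'
        rw [← permOf_comp (valid_inM24 ha) (valid_inM24 hb),
          ← isTriv_iff (valid_comp (valid_inM24 ha) (valid_inM24 hb)), habt] at h'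
        exact Bool.noConfusion h')
    exact ⟨E, h1, h2, h3 _ (commute_el24 e5_ok.1 ha hxa) (commute_el24 e5_ok.1 hb hxb)⟩
  haveI : Fact (Nat.Prime 23) := ⟨by norm_num⟩
  haveI : Fact (Nat.Prime 11) := ⟨by norm_num⟩
  haveI : Fact (Nat.Prime 7) := ⟨by norm_num⟩
  haveI : Fact (Nat.Prime 5) := ⟨by norm_num⟩
  have hN23 := bound24 e23_ok.1 orderOf_e23 cent23 (k := 11)
    (Or.inr ⟨rfl, e23i, e23_ok.2.1, e23_ok.2.2.1, noinv23⟩)
  have hN11 := bound24 e11_ok.1 orderOf_e11 cent11.1 (k := 10) (Or.inl rfl)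
  have hN7 := bound24 e7_ok.1 orderOf_e7 cent7.1 (k := 3)
    (Or.inr ⟨rfl, e7i, e7_ok.2.1, e7_ok.2.2.1, noinv7⟩)
  have hN5 := bound24 e5_ok.1 orderOf_e5 cent5.1 (k := 4) (Or.inl rfl)
  have hbot : IsPGroup 2 (⊥ : Subgroup M24) := IsPGroup.of_bot
  refine NormBound.contradiction χ (ne_trivial χ (by rw [hdeg]; omega)) (d := 2 ^ 10 * m)
    (by rw [charDeg_spec', hdeg]) 0 ![el24 e23 e23_ok.1, el24 e11 e11_ok.1, el24 e7 e7_ok.1,
      el24 e5 e5_ok.1] ![23, 11, 7, 5] (by decide) ?_ ?_ ![253, 110, 126, 240] ?_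
    (fun i => ((![1, 1, 2, 4] i ^ 2 * (2 ^ 10 * m / ![1, 1, 2, 4] i % ![23, 11, 7, 5] i *
      (![23, 11, 7, 5] i - 2 ^ 10 * m / ![1, 1, 2, 4] i % ![23, 11, 7, 5] i)) : ℕ) : ℝ))
    (fun i => Nat.cast_nonneg _) ?_ ?_
  · intro i; fin_cases i <;> norm_num
  · intro i
    fin_cases i
    · exact (orderOf_el24 e23_ok.1).trans orderOf_e23
    · exact (orderOf_el24 e11_ok.1).trans orderOf_e11
    · exact (orderOf_el24 e7_ok.1).trans orderOf_e7
    · exact (orderOf_el24 e5_ok.1).trans orderOf_e5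
  · intro i
    fin_cases i
    · exact hN23
    · exact hN11
    · exact hN7
    · exact hN5
  · intro i hi
    fin_cases i
    · exact gamma_div hM χ hfull (by norm_num) ((orderOf_el24 e23_ok.1).trans orderOf_e23) (by norm_num)
        ⊥ hbot (fun e he => by rw [Subgroup.mem_bot.1 he]; exact Commute.one_right _) Subgroup.card_bot hdeg
    · exact gamma_div hM χ hfull (by norm_num) ((orderOf_el24 e11_ok.1).trans orderOf_e11) (by norm_num)
        ⊥ hbot (fun e he => by rw [Subgroup.mem_bot.1 he]; exact Commute.one_right _) Subgroup.card_bot hdeg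
    · exact gamma_div hM χ hfull (by norm_num) ((orderOf_el24 e7_ok.1).trans orderOf_e7) (by norm_num)
        E7 hE7 hcomm7 hE7c hdeg
    · exact gamma_div hM χ hfull (by norm_num) ((orderOf_el24 e5_ok.1).trans orderOf_e5) (by norm_num)
        E5 hE5 hcomm5 hE5c hdeg
  · rw [card_M24]
    simp only [Fin.sum_univ_four, Matrix.cons_val_zero, Matrix.cons_val_one, Matrix.cons_val,
      Matrix.head_cons]
    interval_cases m
    all_goals first | (norm_num at hm; done) | norm_num

end Cfsg.Agent.Block.Mathieu
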