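import Cfsg.Agent.Lib.Block.Mathieu.NormChecks
import Cfsg.Agent.Lib.Block.SingleTwoBlock
import Cfsg.Agent.Lib.Spor.Golay.AutSearch

/-!
Packed elements as group elements: orders, conjugates, normalizer bounds.
-/

set_option autoImplicit false
set_option maxRecDepth 100000

namespace Cfsg.Agent.Block.Mathieu

open Cfsg Cfsg.Agent.Spor.Golay Cfsg.Agent.Spor.Golay.Census Cfsg.Agent.Spor.Golay.Aut Cfsg.Agent.Block

theorem valid_inM24 {P : ℕ} (h : inM24 P = true) : valid P = true := by
  simp only [inM24, Bool.and_eq_true] at h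
  exact h.1

theorem rec_pow {x : ℕ} (hx : valid x = true) (n : ℕ) :
    valid (Nat.rec idP (fun _ c => comp c x) n) = true ∧
      permOf (Nat.rec idP (fun _ c => comp c x) n) = permOf x ^ n := by
  induction n with
  | zero => exact ⟨valid_idP, by rw [pow_zero]; exact permOf_idP⟩
  | succ n ih =>
    refine ⟨valid_comp ih.1 hx, ?_⟩
    show permOf (comp _ x) = _
    rw [permOf_comp ih.1 hx, ih.2, pow_succ]

theorem orderOf_packed {x p : ℕ} (hx : inM24 x = true) (hp : p.Prime) (ht : isTriv x = false)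
    (hpow : Nat.rec idP (fun _ c => comp c x) p = idP) : orderOf (permOf x) = p := by
  haveI := Fact.mk hp
  refine orderOf_eq_prime ?_ fun h => ?_
  · rw [← (rec_pow (valid_inM24 hx) p).2, hpow, permOf_idP]
  · rw [(isTriv_iff (valid_inM24 hx)).mpr h] at ht
    exact Bool.noConfusion ht

theorem isTriv_ok : isTriv e23 = false ∧ isTriv e11 = false ∧ isTriv e7 = false ∧ isTriv e5 = false := by
  decide +kernel

theorem orderOf_e23 : orderOf (permOf e23) = 23 :=
  orderOf_packed e23_ok.1 (by norm_num) isTriv_ok.1 e23_ok.2.2.2.2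

theorem orderOf_e11 : orderOf (permOf e11) = 11 :=
  orderOf_packed e11_ok.1 (by norm_num) isTriv_ok.2.1 e11_ok.2.2.2.2

theorem orderOf_e7 : orderOf (permOf e7) = 7 :=
  orderOf_packed e7_ok.1 (by norm_num) isTriv_ok.2.2.1 e7_ok.2.2.2.2

theorem orderOf_e5 : orderOf (permOf e5) = 5 :=
  orderOf_packed e5_ok.1 (by norm_num) isTriv_ok.2.2.2 e5_ok.2.2.2.2

theorem klein {G : Type*} [Group G] [Finite G] {a b : G} (ha : a * a = 1) (hb : b * b = 1)
    (hc : a * b = b * a) (ha1 : a ≠ 1) (hb1 : b ≠ 1) (hab : a * b ≠ 1) :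
    ∃ E : Subgroup G, IsPGroup 2 E ∧ Nat.card E = 4 ∧
      ∀ x : G, Commute x a → Commute x b → ∀ e ∈ E, Commute x e := by
  let E : Subgroup G :=
    { carrier := {1, a, b, a * b}
      mul_mem' := fun {x y} hx hy => by
        have la : ∀ z, a * (a * z) = z := fun z => by rw [← mul_assoc, ha, one_mul]
        have lb : ∀ z, b * (b * z) = z := fun z => by rw [← mul_assoc, hb, one_mul]
        have lc : ∀ z, b * (a * z) = a * (b * z) := fun z => by rw [← mul_assoc, ← hc, mul_assoc]
        have hc' : b * a = a * b := hc.symm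
        simp only [Set.mem_insert_iff, Set.mem_singleton_iff] at hx hy ⊢
        rcases hx with rfl | rfl | hx | hx <;> rcases hy with rfl | rfl | hy | hy <;>
          simp_all [mul_assoc]
      one_mem' := by simp
      inv_mem' := fun {x} hx => by
        simp only [Set.mem_insert_iff, Set.mem_singleton_iff] at hx ⊢
        have ha' : a⁻¹ = a := inv_eq_of_mul_eq_one_right ha
        have hb' : b⁻¹ = b := inv_eq_of_mul_eq_one_right hb
        rcases hx with rfl | rfl | rfl | rfl <;> simp [ha', hb', mul_inv_rev, hc] }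
  have hcard : Nat.card E = 4 := by
    show Nat.card ({1, a, b, a * b} : Set G) = 4
    have h1 : a ≠ b := fun h => hab (by rw [← h, ha])
    have h2 : a ≠ a * b := fun h => hb1 (by simpa using h.symm)
    have h3 : b ≠ a * b := fun h => ha1 (by simpa using h.symm)
    rw [Nat.card_coe_set_eq, Set.ncard_insert_of_notMem (by simp [ha1.symm, hb1.symm, hab.symm]),
      Set.ncard_insert_of_notMem (by simp [h1, h2]), Set.ncard_pair h3]
  refine ⟨E, IsPGroup.of_card (n := 2) hcard, hcard, fun x hxa hxb e he => ?_⟩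
  rcases he with rfl | rfl | rfl | rfl
  · exact Commute.one_right _
  · exact hxa
  · exact hxb
  · exact hxa.mul_right hxb

/-- The contribution of one prime, from a group of order prime to it centralising the element. -/
theorem gamma_div {G : Type*} [Group G] [Finite G] {M : Ideal AlgInt} (hM : IsPModular 2 M)
    (χ : IrrCharacter G)
    (hfull : (charDegree (χ : G → ℂ)).factorization 2 = (Nat.card G).factorization 2)
    {x : G} {r : ℕ} (hr : r.Prime) (hx : orderOf x = r) (hr2 : r ≠ 2) (E : Subgroup G)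
    (hE : IsPGroup 2 E) (hc : ∀ e ∈ E, Commute x e) {e d : ℕ} (he : Nat.card E = e)
    (hd : charDegree (χ : G → ℂ) = d) {_fin : Fintype (Subgroup.zpowers x)} :
    ((e ^ 2 * (d / e % r * (r - d / e % r)) : ℕ) : ℝ) + ((d : ℝ) - 0) ^ 2 ≤
      ∑ y : Subgroup.zpowers x, ‖(χ : G → ℂ) y - ((0 : ℝ) : ℂ)‖ ^ 2 := by
  haveI := Fintype.ofFinite G
  haveI := Fact.mk hr
  obtain ⟨d', h1, h2⟩ := SingleBlock.norm_lower_div hM χ hfull hx hr2 E hE hc
  rw [he, hd] at h1
  have h3 : d / e = d' := by
    rw [h1, Nat.mul_div_cancel_left _ (he ▸ Nat.card_pos)]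
  rw [h3]
  simpa only [he, hd, sub_zero, Complex.ofReal_zero] using h2

theorem ne_trivial {G : Type*} [Group G] [Finite G] (χ : IrrCharacter G)
    (h : charDegree (χ : G → ℂ) ≠ 1) : χ ≠ trivialIrr G := by
  rintro rfl
  refine h (Nat.cast_injective (R := ℂ) ?_)
  rw [← charDeg_spec', Nat.cast_one]
  rfl

end Cfsg.Agent.Block.Mathieu
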