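import Cfsg.Agent.Lib.Block.Mathieu.Search

/-! Certificates for the centralizers of the involutions of M24: a normal elementary abelian
subgroup containing its centralizer. -/

set_option autoImplicit false
set_option maxRecDepth 100000

namespace Cfsg.Agent.Block.Mathieu

open Cfsg.Agent.Spor.Golay Cfsg.Agent.Spor.Golay.Census

/-- The representative with eight fixed points. -/
def rA : ℕ := 0x2dab4849d3445aa5b12f21ae710c01

/-- Its fixed points. -/
def mA : ℕ := 7612992

/-- Generators of the pointwise stabiliser of the fixed points. -/
def gensA : List ℕ := [0x8dab444aef815a759133619ca00443, 0x85ab42c9f78a1a15812e11a6321d8a,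
  0x65ab4048e1111b7595238994e43e13, 0x5ab46486a209b35c1274182f8b8b7]

/-- The free representative. -/
def rB : ℕ := 0x89a4d456ef8168a4b173259c710c01

/-- The six tetrads of the invariant sextet. -/
def tetB : List ℕ := [15, 5264, 622848, 3416064, 4196928, 8536096]

/-- Generators of the kernel on the tetrads. -/
def gensB : List ℕ := [0x71a4d7d4a89de8c4a9703da2418820, 0x8adb2452ef816acb28d33a5c418820,
  0x75a95434af85e4a5b13321a2718820, 0x2d9b27d1c89c6a75913061aea18820,
  0x2aeb47c9c89c5acb28d03a6e400443, 0x2da4d455cf8468c5a93339ae408062]

/-- Fixing the points of a mask, on the listed positions. -/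
def fixTest (m : ℕ) (Q : ℕ) (cs : List ℕ) : Bool :=
  cs.all fun b => !Nat.blt b 24 || !(Nat.testBit m b) || Nat.beq (get Q b) b

/-- Preserving each of the listed blocks, on the listed positions. -/
def blockTest (ts : List ℕ) (Q : ℕ) (cs : List ℕ) : Bool :=
  cs.all fun b => !Nat.blt b 24 || ts.any fun t => Nat.testBit t b && Nat.testBit t (get Q b)

theorem repA_ok : repTwo.getD 0 0 = rA ∧ fixMask rA = mA ∧ inM24 rA = true ∧
    (gensA.all fun e => inM24 e && relFull rA rA e && fixTest mA e (List.range 24)) = true := by
  decide +kernel

theorem mapA_ok : inM24 0x780834066eb959512d5091e296d8d4 = true ∧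
    imgMask (get 0x780834066eb959512d5091e296d8d4) 5279 = mA := by decide +kernel

theorem repB_ok : repTwo.getD 1 0 = rB ∧ inM24 rB = true ∧
    (gensB.all fun e => inM24 e && relFull rB rB e && blockTest tetB e (List.range 24)) = true ∧
    (centG.all fun g => valid g && tetB.all fun t => decide (imgMask (get g) t ∈ tetB)) = true ∧
    (tetB.all fun t => tetB.all fun s => Nat.beq t s || Nat.beq (t &&& s) 0) = true ∧
    ((List.range 24).all fun b => tetB.any fun t => Nat.testBit t b) = true := by
  decide +kernel

set_option maxHeartbeats 0 in
theorem selfA :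
    (((allOf fun Q cs => relTest rA rA Q cs && gensA.all fun e => relTest e e Q cs).filter fun R =>
      relFull rA rA R && gensA.all fun e => relFull e e R).all fun R =>
        fixTest mA R (List.range 24)) = true := by
  decide +kernel

set_option maxHeartbeats 0 in
theorem squaresB :
    (((allOf fun Q cs => blockTest tetB Q cs && relTest rB rB Q cs).filter fun R =>
      relFull rB rB R && blockTest tetB R (List.range 24)).all fun R => Nat.beq (comp R R) idP) = true := by
  decide +kernel

set_option maxHeartbeats 0 in
theorem selfB :
    (((allOf fun Q cs => relTest rB rB Q cs && gensB.all fun e => relTest e e Q cs).filter fun R =>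
      relFull rB rB R && gensB.all fun e => relFull e e R).all fun R =>
        blockTest tetB R (List.range 24)) = true := by
  decide +kernel

end Cfsg.Agent.Block.Mathieu
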