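import Cfsg.Agent.Lib.Block.Mathieu.InvolChecks
import Cfsg.Agent.Lib.Spor.Golay.OctStab

/-!
The centralizers of involutions in M24 and in subgroups containing the pointwise stabiliser of the
fixed points have a normal 2-subgroup containing its centralizer.
-/

set_option autoImplicit false
set_option maxRecDepth 100000

namespace Cfsg.Agent.Block.Mathieu

open Cfsg Cfsg.Agent.Spor.Golay Cfsg.Agent.Spor.Golay.Census
open scoped Pointwise

theorem valid_of_inM24 {P : ℕ} (h : inM24 P = true) : valid P = true := by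
  simp only [inM24, Bool.and_eq_true] at h
  exact h.1

theorem comm_of_relFull {r e : ℕ} (hr : valid r = true) (he : valid e = true)
    (h : relFull r r e = true) : permOf e * permOf r = permOf r * permOf e := by
  rw [← permOf_comp he hr, ← permOf_comp hr he, Nat.eq_of_beq_eq_true h]

theorem pts_of_fixTest {m R : ℕ} (hv : valid R = true) (h : fixTest m R (List.range 24) = true)
    {q : GolayPt} (hq : q ∈ pts m) : permOf R q = q := by
  simp only [fixTest, List.all_eq_true, List.mem_range, Bool.or_eq_true, Bool.not_eq_true'] at h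
  refine idx_injective ?_
  rw [idx_permOf hv]
  rcases h _ (idx_lt q) with (h' | h') | h'
  · rw [Nat.blt, Nat.ble_eq.mpr (idx_lt q)] at h'; exact absurd h' (by simp)
  · rw [mem_pts.mp hq] at h'; exact absurd h' (by simp)
  · exact Nat.eq_of_beq_eq_true h'

/-- Free on eight points: the subgroup fixing the fixed points pointwise. -/
theorem constrained_eight (H : Subgroup (Equiv.Perm GolayPt)) (hH : H ≤ M24) (z : H)
    (hz2 : orderOf z = 2) (hne : ∃ p, (z : Equiv.Perm GolayPt) p = p)
    (hfix : ∀ e ∈ M24, (∀ p, (z : Equiv.Perm GolayPt) p = p → e p = p) → e ∈ H) :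
    ∃ Q : Subgroup (Subgroup.centralizer ({z} : Set H)), Q.Normal ∧ IsPGroup 2 Q ∧
      Subgroup.centralizer (Q : Set (Subgroup.centralizer ({z} : Set H))) ≤ Q := by
  classical
  have hz2' : orderOf (z : Equiv.Perm GolayPt) = 2 := by rw [Subgroup.orderOf_coe, hz2]
  obtain ⟨k, hk, ⟨-, hkz⟩ | ⟨h0, -⟩⟩ := two_classes (hH z.2) hz2'
  swap
  · obtain ⟨p, hp⟩ := hne
    exact absurd hp ((fix_zero_iff _).mp h0 p)
  obtain ⟨hrep, hmask, hrA, hgens⟩ := repA_ok
  rw [hrep] at hkz
  have hvA := valid_of_inM24 hrA
  have hfixk : ∀ p, (z : Equiv.Perm GolayPt) p = p ↔ k p ∈ pts mA := by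
    intro p
    rw [← hmask, ← fix_eq hvA, Finset.mem_filter, ← hkz]
    simp only [Finset.mem_univ, true_and, Equiv.Perm.mul_apply, Equiv.Perm.coe_inv,
      Equiv.symm_apply_apply, EmbeddingLike.apply_eq_iff_eq]
  have hcommz : ∀ c : Subgroup.centralizer ({z} : Set H),
      ((c : H) : Equiv.Perm GolayPt) * z = z * ((c : H) : Equiv.Perm GolayPt) := fun c => by
    have := congrArg (fun w : H => (w : Equiv.Perm GolayPt))
      (Subgroup.mem_centralizer_singleton_iff.mp c.2)
    simpa only [Subgroup.coe_mul] using this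
  let Q : Subgroup (Subgroup.centralizer ({z} : Set H)) :=
    { carrier := {c | ∀ p, (z : Equiv.Perm GolayPt) p = p → ((c : H) : Equiv.Perm GolayPt) p = p}
      mul_mem' := fun {a b} ha hb p hp => by
        simp only [Subgroup.coe_mul, Equiv.Perm.mul_apply]
        rw [hb p hp, ha p hp]
      one_mem' := fun p _ => by simp
      inv_mem' := fun {a} ha p hp => by
        simp only [InvMemClass.coe_inv]
        rw [Equiv.Perm.inv_eq_iff_eq]
        exact (ha p hp).symm }
  refine ⟨Q, ⟨fun c hc g p hp => ?_⟩, ?_, ?_⟩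
  · have hg := hcommz g⁻¹
    have hp' : (z : Equiv.Perm GolayPt) (((g⁻¹ : Subgroup.centralizer ({z} : Set H)) : H).1 p) =
        ((g⁻¹ : Subgroup.centralizer ({z} : Set H)) : H).1 p := by
      have := Equiv.congr_fun hg p
      simp only [Equiv.Perm.mul_apply] at this
      rw [hp] at this
      exact this.symm
    have h1 := hc _ hp'
    simp only [Subgroup.coe_mul, InvMemClass.coe_inv, Equiv.Perm.mul_apply] at h1 ⊢
    rw [h1]
    simp
  · obtain ⟨ha, himg⟩ := mapA_ok
    have hav := valid_of_inM24 ha
    have hK := inf_fixing_eq (permOf_mem_M24 ha)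
    rw [permOf_smul_pts hav, himg] at hK
    refine fun c => ⟨4, ?_⟩
    have hmem : k * (((c : Subgroup.centralizer ({z} : Set H)) : H) : Equiv.Perm GolayPt) * k⁻¹ ∈
        (grp tr4SG).map (MulAut.conj (permOf 0x780834066eb959512d5091e296d8d4)).toMonoidHom := by
      rw [← hK, Subgroup.mem_inf, mem_fixingSubgroup_iff]
      refine ⟨mul_mem (mul_mem hk (hH ((c : Subgroup.centralizer ({z} : Set H)) : H).2)) (inv_mem hk),
        fun q hq => ?_⟩
      have h1 := c.2 (k⁻¹ q) ((hfixk _).mpr (by simpa using hq))
      show (k * _ * k⁻¹) q = q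
      rw [Equiv.Perm.mul_apply, Equiv.Perm.mul_apply, h1]
      simp
    have hord := Subgroup.orderOf_dvd_natCard _ hmem
    rw [Subgroup.card_map_of_injective
      (f := (MulAut.conj (permOf 0x780834066eb959512d5091e296d8d4)).toMonoidHom) (MulEquiv.injective _),
      card_ker_oct] at hord
    have h16 := orderOf_dvd_iff_pow_eq_one.mp hord
    rw [conj_pow, conj_eq_one_iff] at h16
    exact Subtype.ext (Subtype.ext (Subtype.ext (by simpa using h16)))
  · intro c hc p hp
    simp only [List.all_eq_true, Bool.and_eq_true] at hgens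
    have hcomm : ∀ e ∈ gensA, k * ((c : H) : Equiv.Perm GolayPt) * k⁻¹ * permOf e =
        permOf e * (k * ((c : H) : Equiv.Perm GolayPt) * k⁻¹) := by
      intro e he
      obtain ⟨⟨heM, hrel⟩, hfx⟩ := hgens e he
      have hev := valid_of_inM24 heM
      have he'M : k⁻¹ * permOf e * k ∈ M24 :=
        mul_mem (mul_mem (inv_mem hk) (permOf_mem_M24 heM)) hk
      have he'fix : ∀ q, (z : Equiv.Perm GolayPt) q = q → (k⁻¹ * permOf e * k) q = q := fun q hq => by
        rw [Equiv.Perm.mul_apply, Equiv.Perm.mul_apply, pts_of_fixTest hev hfx ((hfixk q).mp hq)]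
        simp
      have hec := comm_of_relFull hvA hev hrel
      have he'z : (⟨k⁻¹ * permOf e * k, hfix _ he'M he'fix⟩ : H) ∈
          Subgroup.centralizer ({z} : Set H) := by
        rw [Subgroup.mem_centralizer_singleton_iff]
        refine Subtype.ext ?_
        simp only [Subgroup.coe_mul]
        have hz' : (z : Equiv.Perm GolayPt) = k⁻¹ * permOf rA * k := by rw [← hkz]; group
        rw [hz']
        calc k⁻¹ * permOf e * k * (k⁻¹ * permOf rA * k)
            = k⁻¹ * (permOf e * permOf rA) * k := by group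
          _ = k⁻¹ * (permOf rA * permOf e) * k := by rw [hec]
          _ = _ := by group
      have h := Subgroup.mem_centralizer_iff.mp hc ⟨_, he'z⟩ he'fix
      have h' := congrArg (fun w : Subgroup.centralizer ({z} : Set H) =>
        ((w : H) : Equiv.Perm GolayPt)) h
      simp only [Subgroup.coe_mul] at h'
      calc k * ((c : H) : Equiv.Perm GolayPt) * k⁻¹ * permOf e
          = k * (((c : H) : Equiv.Perm GolayPt) * (k⁻¹ * permOf e * k)) * k⁻¹ := by group
        _ = _ := by rw [← h']; group
    have hcz : k * ((c : H) : Equiv.Perm GolayPt) * k⁻¹ * permOf rA =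
        permOf rA * (k * ((c : H) : Equiv.Perm GolayPt) * k⁻¹) := by
      rw [← hkz]
      calc k * ((c : H) : Equiv.Perm GolayPt) * k⁻¹ * (k * (z : Equiv.Perm GolayPt) * k⁻¹)
          = k * (((c : H) : Equiv.Perm GolayPt) * (z : Equiv.Perm GolayPt)) * k⁻¹ := by group
        _ = _ := by rw [hcommz c]; group
    obtain ⟨R, hR, hv, he⟩ := mem_allOf (mul_mem (mul_mem hk (hH (c : H).2)) (inv_mem hk))
      (test := fun Q cs => relTest rA rA Q cs && gensA.all fun e => relTest e e Q cs) fun Q cs hQ h => by
        simp only [Bool.and_eq_true, List.all_eq_true]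
        exact ⟨relTest_ok hvA hvA hcz hQ h, fun e he =>
          relTest_ok (valid_of_inM24 (hgens e he).1.1) (valid_of_inM24 (hgens e he).1.1) (hcomm e he) hQ h⟩
    have hok := List.all_eq_true.mp selfA R (List.mem_filter.mpr ⟨hR, by
      simp only [Bool.and_eq_true, List.all_eq_true]
      exact ⟨relFull_ok hvA hvA hv (by rw [he]; exact hcz), fun e he' =>
        relFull_ok (valid_of_inM24 (hgens e he').1.1) (valid_of_inM24 (hgens e he').1.1) hv
          (by rw [he]; exact hcomm e he')⟩⟩)
    have h2 := pts_of_fixTest hv hok ((hfixk p).mp hp)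
    rw [he, Equiv.Perm.mul_apply, Equiv.Perm.mul_apply] at h2
    simpa using h2

theorem blocks_of_blockTest {R : ℕ} (hv : valid R = true)
    (h : blockTest tetB R (List.range 24) = true) {t : ℕ} (ht : t ∈ tetB) :
    permOf R • pts t = pts t := by
  obtain ⟨-, -, -, -, hdis, -⟩ := repB_ok
  simp only [List.all_eq_true, Bool.or_eq_true] at hdis
  simp only [blockTest, List.all_eq_true, List.mem_range, Bool.or_eq_true, Bool.not_eq_true',
    List.any_eq_true, Bool.and_eq_true] at h
  refine Finset.eq_of_subset_of_card_le (fun x hx => ?_) (by rw [Finset.card_smul_finset])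
  obtain ⟨q, hq, rfl⟩ := Finset.mem_smul_finset.mp hx
  rcases h _ (idx_lt q) with h' | ⟨s, hs, h1, h2⟩
  · rw [Nat.blt, Nat.ble_eq.mpr (idx_lt q)] at h'; exact absurd h' (by simp)
  · rcases hdis t ht s hs with e | e
    · rw [Nat.eq_of_beq_eq_true e]
      refine mem_pts.mpr ?_
      rw [Equiv.Perm.smul_def, idx_permOf hv]
      exact h2
    · exfalso
      have := mem_pts.mp hq
      have h3 : (t &&& s).testBit (idx q) = true := by simp [Nat.testBit_land, this, h1]
      rw [Nat.eq_of_beq_eq_true e, Nat.zero_testBit] at h3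
      exact Bool.false_ne_true h3

theorem blockTest_ok {g : Equiv.Perm GolayPt} (hg : ∀ t ∈ tetB, g • pts t = pts t)
    {Q : ℕ} {cs : List ℕ} (hQ : valid Q = true) (h : ∀ c ∈ cs, permOf Q (pt c) = g (pt c)) :
    blockTest tetB Q cs = true := by
  obtain ⟨-, -, -, -, -, hcov⟩ := repB_ok
  simp only [List.all_eq_true, List.mem_range, List.any_eq_true] at hcov
  simp only [blockTest, List.all_eq_true, Bool.or_eq_true, Bool.not_eq_true', List.any_eq_true,
    Bool.and_eq_true]
  intro b hb
  by_cases h24 : Nat.blt b 24 = true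
  swap
  · exact Or.inl (Bool.eq_false_iff.mpr h24)
  have hb24 : b < 24 := by simpa [Nat.blt] using h24
  obtain ⟨t, ht, htb⟩ := hcov b hb24
  refine Or.inr ⟨t, ht, htb, ?_⟩
  have hmem : g • pt b ∈ pts t := by
    rw [← hg t ht, Finset.smul_mem_smul_finset_iff, mem_pts, idx_pt hb24]
    exact htb
  rw [Equiv.Perm.smul_def, ← h b hb, mem_pts, idx_permOf hQ, idx_pt hb24] at hmem
  exact hmem

/-- The free involution: the kernel on the tetrads of its sextet. -/
theorem constrained_free (z : M24) (hz : (z : Equiv.Perm GolayPt) = permOf rB) :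
    ∃ Q : Subgroup (Subgroup.centralizer ({z} : Set M24)), Q.Normal ∧ IsPGroup 2 Q ∧
      Subgroup.centralizer (Q : Set (Subgroup.centralizer ({z} : Set M24))) ≤ Q := by
  classical
  obtain ⟨hrep, hrB, hgens, hperm, -, -⟩ := repB_ok
  have hvB := valid_of_inM24 hrB
  simp only [List.all_eq_true, Bool.and_eq_true, decide_eq_true_eq] at hgens hperm
  have hstab : ∀ g ∈ centTf, g • fam tetB = fam tetB := by
    intro g hg
    have hle : grp centG ≤ MulAction.stabilizer (Equiv.Perm GolayPt) (fam tetB) := by
      refine (Subgroup.closure_le _).mpr ?_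
      rintro _ ⟨P, hP, rfl⟩
      obtain ⟨hv, himg⟩ := hperm P hP
      refine Finset.eq_of_subset_of_card_le (fun X hX => ?_) (by rw [Finset.card_smul_finset])
      obtain ⟨Y, hY, rfl⟩ := Finset.mem_smul_finset.mp hX
      simp only [fam, List.mem_toFinset, List.mem_map] at hY ⊢
      obtain ⟨t, ht, rfl⟩ := hY
      exact ⟨_, himg t ht, (permOf_smul_pts hv t).symm⟩
    rw [centTf_facts.2.1] at hg
    exact hle hg
  have hcommz : ∀ c : Subgroup.centralizer ({z} : Set M24),
      ((c : M24) : Equiv.Perm GolayPt) * permOf rB = permOf rB * ((c : M24) : Equiv.Perm GolayPt) :=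
    fun c => by
      have := congrArg (fun w : M24 => (w : Equiv.Perm GolayPt))
        (Subgroup.mem_centralizer_singleton_iff.mp c.2)
      simpa only [Subgroup.coe_mul, hz] using this
  have hmemc : ∀ c : Subgroup.centralizer ({z} : Set M24),
      ((c : M24) : Equiv.Perm GolayPt) ∈ centTf := fun c => by
    refine mem_centTf.mpr ⟨(c : M24).2, ?_⟩
    rw [tf, hrep]
    exact hcommz c
  let Q : Subgroup (Subgroup.centralizer ({z} : Set M24)) :=
    { carrier := {c | ∀ t ∈ tetB, ((c : M24) : Equiv.Perm GolayPt) • pts t = pts t}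
      mul_mem' := fun {a b} ha hb t ht => by
        simp only [Subgroup.coe_mul, mul_smul]
        rw [hb t ht, ha t ht]
      one_mem' := fun t _ => by simp
      inv_mem' := fun {a} ha t ht => by
        simp only [InvMemClass.coe_inv]
        rw [inv_smul_eq_iff]
        exact (ha t ht).symm }
  refine ⟨Q, ⟨fun c hc g t ht => ?_⟩, ?_, ?_⟩
  · have h1 : ((g⁻¹ : Subgroup.centralizer ({z} : Set M24)) : M24).1 • pts t ∈ fam tetB := by
      rw [← hstab _ (hmemc g⁻¹)]
      exact Finset.smul_mem_smul_finset (by simp only [fam, List.mem_toFinset, List.mem_map]; exact ⟨t, ht, rfl⟩)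
    simp only [fam, List.mem_toFinset, List.mem_map] at h1
    obtain ⟨s, hs, hse⟩ := h1
    simp only [Subgroup.coe_mul, InvMemClass.coe_inv, mul_smul] at hse ⊢
    rw [← hse, hc s hs, hse, smul_inv_smul]
  · refine fun c => ⟨1, ?_⟩
    obtain ⟨R, hR, hv, he⟩ := mem_allOf
      ((c : Subgroup.centralizer ({z} : Set M24)) : M24).2
      (test := fun Q cs => blockTest tetB Q cs && relTest rB rB Q cs) fun Q' cs hQ h => by
        simp only [Bool.and_eq_true]
        exact ⟨blockTest_ok c.2 hQ h, relTest_ok hvB hvB (hcommz c) hQ h⟩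
    have hblock : blockTest tetB R (List.range 24) = true :=
      blockTest_ok c.2 hv fun b _ => by rw [he]
    have hok := List.all_eq_true.mp squaresB R (List.mem_filter.mpr ⟨hR, by
      simp only [Bool.and_eq_true]
      exact ⟨relFull_ok hvB hvB hv (by rw [he]; exact hcommz c), hblock⟩⟩)
    refine Subtype.ext (Subtype.ext (Subtype.ext ?_))
    simp only [pow_one, SubmonoidClass.coe_pow, OneMemClass.coe_one]
    rw [pow_two, ← he, ← permOf_comp hv hv, Nat.eq_of_beq_eq_true hok, permOf_idP]
  · intro c hc t ht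
    have hcomm : ∀ e ∈ gensB, ((c : M24) : Equiv.Perm GolayPt) * permOf e =
        permOf e * ((c : M24) : Equiv.Perm GolayPt) := by
      intro e he
      obtain ⟨⟨heM, hrel⟩, hblk⟩ := hgens e he
      have hev := valid_of_inM24 heM
      have hez : (⟨permOf e, permOf_mem_M24 heM⟩ : M24) ∈ Subgroup.centralizer ({z} : Set M24) := by
        rw [Subgroup.mem_centralizer_singleton_iff]
        refine Subtype.ext ?_
        simp only [Subgroup.coe_mul, hz]
        exact comm_of_relFull hvB hev hrel
      have h := Subgroup.mem_centralizer_iff.mp hc ⟨_, hez⟩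
        (fun t ht => blocks_of_blockTest hev hblk ht)
      have h' := congrArg (fun w : Subgroup.centralizer ({z} : Set M24) =>
        ((w : M24) : Equiv.Perm GolayPt)) h
      simp only [Subgroup.coe_mul] at h'
      exact h'.symm
    obtain ⟨R, hR, hv, he⟩ := mem_allOf (c : M24).2
      (test := fun Q cs => relTest rB rB Q cs && gensB.all fun e => relTest e e Q cs) fun Q' cs hQ h => by
        simp only [Bool.and_eq_true, List.all_eq_true]
        exact ⟨relTest_ok hvB hvB (hcommz c) hQ h, fun e he =>
          relTest_ok (valid_of_inM24 (hgens e he).1.1) (valid_of_inM24 (hgens e he).1.1) (hcomm e he) hQ h⟩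
    have hok := List.all_eq_true.mp selfB R (List.mem_filter.mpr ⟨hR, by
      simp only [Bool.and_eq_true, List.all_eq_true]
      exact ⟨relFull_ok hvB hvB hv (by rw [he]; exact hcommz c), fun e he' =>
        relFull_ok (valid_of_inM24 (hgens e he').1.1) (valid_of_inM24 (hgens e he').1.1) hv
          (by rw [he]; exact hcomm e he')⟩⟩)
    rw [← he]
    exact blocks_of_blockTest hv hok ht

end Cfsg.Agent.Block.Mathieu
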