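import Cfsg.Agent.Lib.Block.Mathieu.Search

/-! Certificates: centralizer bounds in M24 and in two-point stabilisers, absence of inverters. -/

set_option autoImplicit false
set_option maxRecDepth 100000

namespace Cfsg.Agent.Block.Mathieu

open Cfsg.Agent.Spor.Golay Cfsg.Agent.Spor.Golay.Census

/-- An element of order 23. -/
def e23 : ℕ := 0x3d8ad7ad57301119c1d24d59420c41

/-- Its inverse. -/
def e23i : ℕ := 0x858c45a18a9a685944edbbea31040e

theorem e23_ok : inM24 e23 = true ∧ valid e23i = true ∧ comp e23i e23 = idP ∧
    Nat.beq e23 idP = false ∧ Nat.rec idP (fun _ c => comp c e23) 23 = idP := by decide +kernel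

set_option maxHeartbeats 0 in
theorem cent23 : (conjList e23 e23).length ≤ 23 := by decide +kernel

set_option maxHeartbeats 0 in
theorem noinv23 : conjList e23 e23i = [] := by decide +kernel

/-- An element of order 11. -/
def e11 : ℕ := 0x4ccab3a22c041b271aca7d69720c41

/-- Its inverse. -/
def e11i : ℕ := 0x224c5b322e3adb0a22f29aaa31040f

theorem e11_ok : inM24 e11 = true ∧ valid e11i = true ∧ comp e11i e11 = idP ∧
    Nat.beq e11 idP = false ∧ Nat.rec idP (fun _ c => comp c e11) 11 = idP := by decide +kernel

/-- Fixing two chosen fixed points of the element. -/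
def keep11 (R : ℕ) : Bool := Nat.beq (get R 13) 13 && Nat.beq (get R 17) 17

set_option maxHeartbeats 0 in
theorem cent11 : (conjList e11 e11).length ≤ 11 ∧
    ((conjList e11 e11).filter keep11).length ≤ 11 := by decide +kernel

set_option maxHeartbeats 0 in
theorem noinv11 : (conjList e11 e11i).filter keep11 = [] := by decide +kernel

/-- An element of order 7. -/
def e7 : ℕ := 0x7c6ae2ceed5cac0832883a4ca20c41

/-- Its inverse. -/
def e7i : ℕ := 0x8b6a993acbbd20a790c8396631040c

theorem e7_ok : inM24 e7 = true ∧ valid e7i = true ∧ comp e7i e7 = idP ∧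
    Nat.beq e7 idP = false ∧ Nat.rec idP (fun _ c => comp c e7) 7 = idP := by decide +kernel

/-- Fixing two chosen fixed points of the element. -/
def keep7 (R : ℕ) : Bool := Nat.beq (get R 7) 7 && Nat.beq (get R 8) 8

set_option maxHeartbeats 0 in
theorem cent7 : (conjList e7 e7).length ≤ 42 ∧
    ((conjList e7 e7).filter keep7).length ≤ 7 := by decide +kernel

set_option maxHeartbeats 0 in
theorem noinv7 : conjList e7 e7i = [] := by decide +kernel

/-- An element of order 5. -/
def e5 : ℕ := 0x9c165936cf3390c4aa973c6a020c41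

/-- Its inverse. -/
def e5i : ℕ := 0x444a9bccd683a4caa96d3be8310404

theorem e5_ok : inM24 e5 = true ∧ valid e5i = true ∧ comp e5i e5 = idP ∧
    Nat.beq e5 idP = false ∧ Nat.rec idP (fun _ c => comp c e5) 5 = idP := by decide +kernel

/-- Fixing two chosen fixed points of the element. -/
def keep5 (R : ℕ) : Bool := Nat.beq (get R 7) 7 && Nat.beq (get R 10) 10

set_option maxHeartbeats 0 in
theorem cent5 : (conjList e5 e5).length ≤ 60 ∧
    ((conjList e5 e5).filter keep5).length ≤ 5 := by decide +kernel

end Cfsg.Agent.Block.Mathieu
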