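import Cfsg.Agent.Lib.Spor.Golay.CensusFixed

/-!
Searches in the code group: elements mapping one element to another under conjugation, bounds for
normalizers of cyclic subgroups, and constrained centralizers of involutions.
-/

set_option autoImplicit false
set_option maxRecDepth 100000

namespace Cfsg.Agent.Block.Mathieu

open Cfsg Cfsg.Agent.Spor.Golay Cfsg.Agent.Spor.Golay.Census

/-- Partial compatibility with `g * x = y * g`. -/
def relTest (x y : ℕ) (Q : ℕ) (cs : List ℕ) : Bool :=
  cs.all fun b => !Nat.blt b 24 || !(cs.any fun c => Nat.beq c (get x b)) ||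
    Nat.beq (get Q (get x b)) (get y (get Q b))

/-- Equality as packed permutations of `g * x` and `y * g`. -/
def relFull (x y R : ℕ) : Bool := Nat.beq (comp R x) (comp y R)

theorem relTest_ok {x y : ℕ} (hx : valid x = true) (hy : valid y = true) {g : Equiv.Perm GolayPt}
    (hg : g * permOf x = permOf y * g) {Q : ℕ} {cs : List ℕ} (hQ : valid Q = true)
    (h : ∀ c ∈ cs, permOf Q (pt c) = g (pt c)) : relTest x y Q cs = true := by
  simp only [relTest, List.all_eq_true, Bool.or_eq_true, Bool.not_eq_true']
  intro b hb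
  by_cases h24 : Nat.blt b 24 = true
  swap
  · exact Or.inl (Or.inl (Bool.eq_false_iff.mpr h24))
  by_cases hany : (cs.any fun c => Nat.beq c (get x b)) = true
  swap
  · exact Or.inl (Or.inr (Bool.eq_false_iff.mpr hany))
  refine Or.inr ?_
  have hb24 : b < 24 := by simpa [Nat.blt] using h24
  obtain ⟨c, hc, hce⟩ := List.any_eq_true.mp hany
  have hce' : c = get x b := Nat.eq_of_beq_eq_true hce
  have hxb : permOf x (pt b) = pt (get x b) := idx_injective (by
    rw [idx_permOf hx, idx_pt hb24, idx_pt ((valid_iff.mp hx).2 b hb24)])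
  have e := Equiv.congr_fun hg (pt b)
  rw [Equiv.Perm.mul_apply, Equiv.Perm.mul_apply, hxb] at e
  have h1 : permOf Q (pt (get x b)) = g (pt (get x b)) := by rw [← hce']; exact h c hc
  have h2 : permOf Q (pt b) = g (pt b) := h b hb
  rw [← h1, ← h2] at e
  have e' := congrArg idx e
  rw [idx_permOf hQ, idx_pt ((valid_iff.mp hx).2 b hb24), idx_permOf hy, idx_permOf hQ, idx_pt hb24] at e'
  rw [e']
  exact Nat.beq_refl _

theorem eq_packed {R S : ℕ} (hR : valid R = true) (hS : valid S = true)
    (h : permOf R = permOf S) {i : ℕ} (hi : i < 24) : get R i = get S i := by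
  have := congrArg (fun σ : Equiv.Perm GolayPt => idx (σ (pt i))) h
  simpa only [idx_permOf hR, idx_permOf hS, idx_pt hi] using this

theorem relFull_ok {x y : ℕ} (hx : valid x = true) (hy : valid y = true) {R : ℕ} (hR : valid R = true)
    (h : permOf R * permOf x = permOf y * permOf R) : relFull x y R = true := by
  rw [← permOf_comp hR hx, ← permOf_comp hy hR] at h
  have he : comp R x = comp y R := pack_ext 24 _ _ fun i hi => by
    have := eq_packed (valid_comp hR hx) (valid_comp hy hR) h hi
    rwa [get_comp _ _ hi, get_comp _ _ hi] at this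
  rw [relFull, he]
  exact Nat.beq_refl _

/-- The elements of the code group passing a test at every level. -/
def allOf (test : ℕ → List ℕ → Bool) : List ℕ := cands table test idP [] chainA

theorem mem_allOf {test : ℕ → List ℕ → Bool} {g : Equiv.Perm GolayPt} (hg : g ∈ M24)
    (ht : ∀ Q cs, valid Q = true → (∀ c ∈ cs, permOf Q (pt c) = g (pt c)) → test Q cs = true) :
    ∃ R ∈ allOf test, valid R = true ∧ permOf R = g := by
  refine mem_cands tableOk test ht _ _ _ valid_idP lowA upA idx_ok.1 ?_
  rw [permOf_idP, inv_one, one_mul]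
  exact mem_Fix.mpr ⟨hg, fun x hx => absurd hx List.not_mem_nil, fun b hb => absurd hb List.not_mem_nil⟩

/-- The elements carrying `x` to `y`. -/
def conjList (x y : ℕ) : List ℕ := (allOf (relTest x y)).filter (relFull x y)

theorem mem_conjList {x y : ℕ} (hx : valid x = true) (hy : valid y = true) {g : Equiv.Perm GolayPt}
    (hgM : g ∈ M24) (hg : g * permOf x = permOf y * g) :
    ∃ R ∈ conjList x y, valid R = true ∧ permOf R = g := by
  obtain ⟨R, hR, hv, rfl⟩ := mem_allOf hgM (test := relTest x y)
    fun Q cs hQ h => relTest_ok hx hy hg hQ h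
  exact ⟨R, List.mem_filter.mpr ⟨hR, relFull_ok hx hy hv hg⟩, hv, rfl⟩

section Count

variable {G : Type*} [Group G] [Finite G]

/-- Bound for a normalizer from a centraliser bound and the absence of inverting elements. -/
theorem card_normalizer_le {x : G} {p : ℕ} [hp : Fact p.Prime] (hx : orderOf x = p) {c k : ℕ}
    (hc : Nat.card (Subgroup.centralizer ({x} : Set G)) ≤ c)
    (hk : k = p - 1 ∨ (2 * k + 1 = p ∧ ∀ g : G, g * x * g⁻¹ ≠ x⁻¹)) :
    Nat.card (Subgroup.normalizer (Subgroup.zpowers x : Set G)) ≤ c * k := by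
  classical
  set N := Subgroup.normalizer (Subgroup.zpowers x : Set G)
  haveI := Fintype.ofFinite N
  haveI : NeZero p := ⟨hp.out.ne_zero⟩
  have hex : ∀ g : N, ∃ i : ℕ, x ^ i = (g : G) * x * (g : G)⁻¹ := fun g =>
    Submonoid.mem_powers_iff _ _ |>.mp (mem_powers_iff_mem_zpowers.mpr
      ((Subgroup.mem_normalizer_iff.mp g.2 x).mp (Subgroup.mem_zpowers x)))
  choose e he using hex
  let φ : N → ZMod p := fun g => (e g : ZMod p)
  have hφ : ∀ g h : N, φ g = φ h → (g : G) * x * (g : G)⁻¹ = (h : G) * x * (h : G)⁻¹ := fun g h hgh => by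
    rw [← he, ← he, ← pow_mod_orderOf, ← pow_mod_orderOf x (e h), hx,
      (ZMod.natCast_eq_natCast_iff' _ _ p).mp hgh]
  have hfib : ∀ s ∈ Finset.univ.image φ, (Finset.univ.filter fun g : N => φ g = s).card ≤ c := by
    intro s hs
    obtain ⟨g0, -, rfl⟩ := Finset.mem_image.mp hs
    refine le_trans ?_ hc
    have hmem : ∀ g : ↥(Finset.univ.filter fun g : N => φ g = φ g0),
        ((g0 : G)⁻¹ * ((g : N) : G)) ∈ Subgroup.centralizer ({x} : Set G) := fun g => by
      rw [Subgroup.mem_centralizer_singleton_iff]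
      have h := hφ _ _ (Finset.mem_filter.mp g.2).2
      calc (g0 : G)⁻¹ * ((g : N) : G) * x
          = (g0 : G)⁻¹ * (((g : N) : G) * x * ((g : N) : G)⁻¹) * ((g : N) : G) := by group
        _ = x * ((g0 : G)⁻¹ * ((g : N) : G)) := by rw [h]; group
    rw [← Fintype.card_coe, ← Nat.card_eq_fintype_card]
    exact Nat.card_le_card_of_injective (fun g => ⟨_, hmem g⟩) fun g g' h =>
      Subtype.ext (Subtype.ext (mul_left_cancel (congrArg Subtype.val h)))
  have hne : ∀ g : N, φ g ≠ 0 := fun g h0 => by
    have hx1 : x ^ e g = 1 := orderOf_dvd_iff_pow_eq_one.mp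
      (hx ▸ (ZMod.natCast_eq_zero_iff _ _).mp h0)
    have h1 : x = 1 := conj_eq_one_iff.mp ((he g).symm.trans hx1)
    rw [h1, orderOf_one] at hx
    exact hp.out.ne_one hx.symm
  have hS : (Finset.univ.image φ).card ≤ k := by
    rcases hk with rfl | ⟨hk, hno⟩
    · refine le_trans (Finset.card_le_card (t := Finset.univ.erase (0 : ZMod p)) fun s hs => ?_) ?_
      · obtain ⟨g, -, rfl⟩ := Finset.mem_image.mp hs
        exact Finset.mem_erase.mpr ⟨hne g, Finset.mem_univ _⟩
      · rw [Finset.card_erase_of_mem (Finset.mem_univ _), Finset.card_univ, ZMod.card]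
    · have hdisj : Disjoint (Finset.univ.image φ) ((Finset.univ.image φ).image fun s => -s) := by
        rw [Finset.disjoint_left]
        intro s hs hs'
        obtain ⟨g, -, rfl⟩ := Finset.mem_image.mp hs
        obtain ⟨t, ht, hgt⟩ := Finset.mem_image.mp hs'
        obtain ⟨h, -, rfl⟩ := Finset.mem_image.mp ht
        refine hno ((h : G)⁻¹ * (g : G)) ?_
        have hinv : x ^ e g = (x ^ e h)⁻¹ := by
          refine eq_inv_of_mul_eq_one_left ?_
          rw [← pow_add, ← orderOf_dvd_iff_pow_eq_one, hx, ← ZMod.natCast_eq_zero_iff]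
          push_cast
          show φ g + φ h = 0
          rw [← hgt, neg_add_cancel]
        rw [he, he] at hinv
        calc (h : G)⁻¹ * (g : G) * x * ((h : G)⁻¹ * (g : G))⁻¹
            = (h : G)⁻¹ * ((g : G) * x * (g : G)⁻¹) * (h : G) := by group
          _ = x⁻¹ := by rw [hinv]; group
      have hsub : Finset.univ.image φ ∪ (Finset.univ.image φ).image (fun s => -s) ⊆
          Finset.univ.erase (0 : ZMod p) := by
        intro s hs
        refine Finset.mem_erase.mpr ⟨?_, Finset.mem_univ _⟩
        rcases Finset.mem_union.mp hs with h | h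
        · obtain ⟨g, -, rfl⟩ := Finset.mem_image.mp h
          exact hne g
        · obtain ⟨t, ht, rfl⟩ := Finset.mem_image.mp h
          obtain ⟨g, -, rfl⟩ := Finset.mem_image.mp ht
          exact neg_ne_zero.mpr (hne g)
      have h2 := Finset.card_le_card hsub
      rw [Finset.card_union_of_disjoint hdisj, Finset.card_image_of_injective _ neg_injective,
        Finset.card_erase_of_mem (Finset.mem_univ _), Finset.card_univ, ZMod.card] at h2
      omega
  rw [Nat.card_eq_fintype_card, ← Finset.card_univ]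
  calc (Finset.univ : Finset N).card ≤ c * (Finset.univ.image φ).card :=
        Finset.card_le_mul_card_image Finset.univ c hfib
    _ ≤ c * k := Nat.mul_le_mul_left c hS

end Count

/-- A bound for a centraliser in a subgroup of the code group. -/
theorem centralizer_bound (H : Subgroup (Equiv.Perm GolayPt)) (hH : H ≤ M24)
    {a : Equiv.Perm GolayPt} (ha : a ∈ M24) (keep : ℕ → Bool)
    (hkeep : ∀ g ∈ H, ∀ R, valid R = true → permOf R = a⁻¹ * g * a → keep R = true)
    {x : ℕ} (hx : valid x = true) {x' : H}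
    (hx' : a⁻¹ * (x' : Equiv.Perm GolayPt) * a = permOf x) {c : ℕ}
    (hlen : ((conjList x x).filter keep).length ≤ c) :
    Nat.card (Subgroup.centralizer ({x'} : Set H)) ≤ c := by
  classical
  have key : ∀ g : Subgroup.centralizer ({x'} : Set H), ∃ R ∈ (conjList x x).filter keep,
      permOf R = a⁻¹ * ((g : H) : Equiv.Perm GolayPt) * a := by
    intro g
    have hgx := congrArg (fun z : H => (z : Equiv.Perm GolayPt))
      (Subgroup.mem_centralizer_singleton_iff.mp g.2)
    simp only [Subgroup.coe_mul] at hgx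
    obtain ⟨R, hR, hv, he⟩ := mem_conjList hx hx (g := a⁻¹ * ((g : H) : Equiv.Perm GolayPt) * a)
      (mul_mem (mul_mem (inv_mem ha) (hH (g : H).2)) ha) (by
        rw [← hx']
        calc a⁻¹ * ((g : H) : Equiv.Perm GolayPt) * a * (a⁻¹ * (x' : Equiv.Perm GolayPt) * a)
            = a⁻¹ * (((g : H) : Equiv.Perm GolayPt) * (x' : Equiv.Perm GolayPt)) * a := by group
          _ = _ := by rw [hgx]; group)
    exact ⟨R, List.mem_filter.mpr ⟨hR, hkeep _ (g : H).2 R hv he⟩, he⟩
  choose f hf1 hf2 using key
  have hinj : Function.Injective fun g : Subgroup.centralizer ({x'} : Set H) =>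
      (⟨f g, List.mem_toFinset.mpr (hf1 g)⟩ : ↥((conjList x x).filter keep).toFinset) := by
    intro g g' h
    have h' : f g = f g' := congrArg Subtype.val h
    have e := (hf2 g).symm.trans ((congrArg permOf h').trans (hf2 g'))
    exact Subtype.ext (Subtype.ext (mul_left_cancel (mul_right_cancel e)))
  refine (Nat.card_le_card_of_injective _ hinj).trans ?_
  rw [Nat.card_eq_fintype_card, Fintype.card_coe]
  exact (List.toFinset_card_le _).trans hlen

/-- No element inverts, when the search is empty. -/
theorem no_inverter (H : Subgroup (Equiv.Perm GolayPt)) (hH : H ≤ M24)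
    {a : Equiv.Perm GolayPt} (ha : a ∈ M24) (keep : ℕ → Bool)
    (hkeep : ∀ g ∈ H, ∀ R, valid R = true → permOf R = a⁻¹ * g * a → keep R = true)
    {x y : ℕ} (hx : valid x = true) (hy : valid y = true) (hxy : comp y x = idP) {x' : H}
    (hx' : a⁻¹ * (x' : Equiv.Perm GolayPt) * a = permOf x)
    (hnil : (conjList x y).filter keep = []) (g : H) : g * x' * g⁻¹ ≠ x'⁻¹ := by
  intro h
  have e := congrArg (fun z : H => (z : Equiv.Perm GolayPt)) h
  simp only [Subgroup.coe_mul, Subgroup.coe_inv] at e
  have hyi : permOf y = (permOf x)⁻¹ :=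
    eq_inv_of_mul_eq_one_left (by rw [← permOf_comp hy hx, hxy, permOf_idP])
  obtain ⟨R, hR, hv, he⟩ := mem_conjList hx hy (g := a⁻¹ * (g : Equiv.Perm GolayPt) * a)
    (mul_mem (mul_mem (inv_mem ha) (hH g.2)) ha) (by
      rw [hyi, ← hx']
      calc a⁻¹ * (g : Equiv.Perm GolayPt) * a * (a⁻¹ * (x' : Equiv.Perm GolayPt) * a)
          = a⁻¹ * ((g : Equiv.Perm GolayPt) * (x' : Equiv.Perm GolayPt) *
              (g : Equiv.Perm GolayPt)⁻¹) * (g : Equiv.Perm GolayPt) * a := by group
        _ = _ := by rw [e]; group)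
  have : R ∈ (conjList x y).filter keep := List.mem_filter.mpr ⟨hR, hkeep _ g.2 R hv he⟩
  rw [hnil] at this
  exact List.not_mem_nil this

end Cfsg.Agent.Block.Mathieu
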